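import Cfsg.Prelude.Def_LieExceptional
import Cfsg.Prelude.Def_LocalEven
import Cfsg.Agent.Lib.Suzuki.Maximal
import Cfsg.Agent.Lib.Suzuki.Solvable
import Cfsg.Agent.Lib.SzPairGen.Arith
import Cfsg.Agent.Lib.S3Simple.Classification
import Cfsg.Agent.Lib.SuzukiUnique.Transport

/-!
A finite group whose maximal subgroups have the orders of those of a Suzuki group is that Suzuki group.

The two groups have equal order as each Sylow subgroup lies in a maximal subgroup.  For a primitive prime `r` of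
`2 ^ (4 n) - 1` no proper subgroup of order divisible by `r` has order divisible by eight, so the group is simple;
it does not involve `S₃` and the classification of such simple groups identifies it.
-/

set_option autoImplicit false
set_option linter.unusedSectionVars false
set_option linter.style.haveILetI false

namespace CfsgLib.SzMaxOrders

open Cfsg

universe u v

/-! ### The orders of maximal subgroups -/

section Orders

variable {G : Type u} [Group G] [Finite G] {S : Type v} [Group S] [Finite S]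

/-- The orders of the maximal subgroups. -/
abbrev maxOrders (G : Type u) [Group G] : Set ℕ := {k : ℕ | ∃ M : Subgroup G, IsCoatom M ∧ k = Nat.card ↥M}

theorem exists_max {H : Subgroup G} (hH : H ≠ ⊤) : ∃ M : Subgroup G, IsCoatom M ∧ H ≤ M :=
  (eq_top_or_exists_le_coatom H).resolve_left hH

theorem card_sylow_dvd (hGS : maxOrders G ⊆ maxOrders S) {p : ℕ} [Fact p.Prime] (P : Sylow p G)
    (hP : (P : Subgroup G) ≠ ⊤) : Nat.card (P : Subgroup G) ∣ Nat.card S := by
  obtain ⟨M, hM, hPM⟩ := exists_max hP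
  obtain ⟨M', -, hM'⟩ := hGS ⟨M, hM, rfl⟩
  exact ((Subgroup.card_dvd_of_le hPM).trans (dvd_of_eq hM')).trans (Subgroup.card_subgroup_dvd_card M')

/-- If the maximal orders of `G` are among those of `S` and `G` has two prime divisors, its order divides that of
`S`. -/
theorem card_dvd (hGS : maxOrders G ⊆ maxOrders S) {p₁ p₂ : ℕ} (h1 : p₁.Prime) (h2 : p₂.Prime) (hne : p₁ ≠ p₂)
    (d1 : p₁ ∣ Nat.card G) (d2 : p₂ ∣ Nat.card G) : Nat.card G ∣ Nat.card S := by
  rw [Nat.dvd_iff_prime_pow_dvd_dvd]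
  intro p k hp hd
  haveI := Fact.mk hp
  obtain ⟨P⟩ : Nonempty (Sylow p G) := inferInstance
  have hP : (P : Subgroup G) ≠ ⊤ := by
    intro e
    obtain ⟨i, hi⟩ := IsPGroup.iff_card.mp P.2
    rw [e, Subgroup.card_top] at hi
    rw [hi] at d1 d2
    exact hne (((Nat.prime_dvd_prime_iff_eq h1 hp).mp (h1.dvd_of_dvd_pow d1)).trans
      ((Nat.prime_dvd_prime_iff_eq h2 hp).mp (h2.dvd_of_dvd_pow d2)).symm)
  refine dvd_trans ?_ (card_sylow_dvd hGS P hP)
  rw [P.card_eq_multiplicity]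
  exact pow_dvd_pow p ((hp.pow_dvd_iff_le_factorization Nat.card_pos.ne').mp hd)

/-- Equal sets of maximal orders give equal orders, when one of the groups has two prime divisors. -/
theorem card_eq (h : maxOrders G = maxOrders S) {p₁ p₂ : ℕ} (h1 : p₁.Prime) (h2 : p₂.Prime) (hne : p₁ ≠ p₂)
    (d1 : p₁ ∣ Nat.card S) (d2 : p₂ ∣ Nat.card S) : Nat.card G = Nat.card S := by
  have hSG := card_dvd (G := S) (S := G) h.ge h1 h2 hne d1 d2
  exact Nat.dvd_antisymm (card_dvd h.le h1 h2 hne (d1.trans hSG) (d2.trans hSG)) hSG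

end Orders

/-! ### The subgroups of a Suzuki group with a primitive prime -/

/-- A prime `r` of `2 ^ (4 n) - 1`, primitive, `n = 2 m + 1`. -/
structure Prim (m r : ℕ) : Prop where
  prime : r.Prime
  big : 4 * (2 * m + 1) < r
  dvd : r ∣ 2 ^ (4 * (2 * m + 1)) - 1
  prim : ∀ g : ℕ, 1 ≤ g → r ∣ 2 ^ g - 1 → 4 * (2 * m + 1) ∣ g

theorem exists_prim (m : ℕ) (hm : 1 ≤ m) : ∃ r, Prim m r := by
  obtain ⟨r, h1, h2, h3, h4⟩ := SzPairGen.exists_ppd (n := 4 * (2 * m + 1)) (by omega) (by omega)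
  exact ⟨r, h1, h3, h2, h4⟩

/-- The order of the Suzuki group. -/
abbrev szOrd (k : ℕ) : ℕ :=
  (2 ^ (2 * k + 1)) ^ 2 * ((2 ^ (2 * k + 1)) ^ 2 + 1) * (2 ^ (2 * k + 1) - 1)

theorem eight_of_sixtyfour {a b : ℕ} (h : 64 ∣ a * b) (hb : ¬ 8 ∣ b) : 8 ∣ a := by
  obtain ⟨i, -, hi⟩ := (Nat.dvd_prime_pow Nat.prime_two).mp (Nat.gcd_dvd_left (2 ^ 6) b)
  have hi2 : i ≤ 2 := by
    by_contra hlt
    refine hb ((pow_dvd_pow 2 (by omega : 3 ≤ i)).trans ?_)
    rw [← hi]
    exact Nat.gcd_dvd_right _ _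
  have h64 : 2 ^ 6 ∣ a * Nat.gcd (2 ^ 6) b := by
    rw [← Nat.gcd_mul_left]
    exact Nat.dvd_gcd (dvd_mul_left _ _) h
  rw [hi] at h64
  interval_cases i <;> omega

theorem pow_four_sub_one (k : ℕ) :
    2 ^ (4 * (2 * k + 1)) - 1 = ((2 ^ (2 * k + 1)) ^ 2 + 1) * ((2 ^ (2 * k + 1)) ^ 2 - 1) := by
  rw [← Nat.sq_sub_sq, one_pow, ← pow_mul, ← pow_mul]
  congr 2
  ring

theorem Prim.dvd_szOrd {m r : ℕ} (hr : Prim m r) : r ∣ szOrd m := by
  have h := hr.dvd
  rw [pow_four_sub_one] at h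
  refine (((hr.prime.dvd_mul).mp h).resolve_right fun h' => ?_).trans (Dvd.intro_left _ rfl |>.trans (dvd_mul_right _ _))
  rw [← pow_mul] at h'
  have := Nat.le_of_dvd (by omega) (hr.prim _ (by omega) h')
  omega

theorem Prim.eq_of_dvd {m k r : ℕ} (hr : Prim m r) (hk : k ≤ m) (h : r ∣ szOrd k) : k = m := by
  have := hr.big
  rcases (hr.prime.dvd_mul).mp h with h' | h'
  · rcases (hr.prime.dvd_mul).mp h' with h'' | h''
    · have := (Nat.prime_dvd_prime_iff_eq hr.prime Nat.prime_two).mp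
        (hr.prime.dvd_of_dvd_pow (hr.prime.dvd_of_dvd_pow h''))
      omega
    · have h4 : r ∣ 2 ^ (4 * (2 * k + 1)) - 1 := by
        rw [pow_four_sub_one]; exact h''.mul_right _
      have := Nat.le_of_dvd (by omega) (hr.prim _ (by omega) h4)
      omega
  · have := Nat.le_of_dvd (by omega) (hr.prim _ (by omega) h')
    omega

section Sz

variable {F : Type u} [Field F] [Fintype F] {m : ℕ} (hF : Fintype.card F = 2 ^ (2 * m + 1))
include hF

theorem sz_proper (hm : 1 ≤ m) {r : ℕ} (hr : Prim m r) (M : Subgroup ↥(Cfsg.Sz F m)) (hM : M ≠ ⊤)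
    (hrM : r ∣ Nat.card M) (h8 : 8 ∣ Nat.card M) : False := by
  have hbig := hr.big
  rcases Suzuki.trichotomy hF hm M with ⟨p, hp, hfix⟩ | ⟨z, hz, hle⟩ | ⟨k, g, hk, hdiv, heq⟩
  · have hle : M ≤ MulAction.stabilizer ↥(Cfsg.Sz F m) p := fun g hg =>
      MulAction.mem_stabilizer_iff.mpr (hfix g hg)
    have h := hrM.trans (Subgroup.card_dvd_of_le hle)
    rw [Suzuki.card_stab hF hm hp] at h
    rcases (hr.prime.dvd_mul).mp h with h' | h'
    · have := (Nat.prime_dvd_prime_iff_eq hr.prime Nat.prime_two).mp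
        (hr.prime.dvd_of_dvd_pow (hr.prime.dvd_of_dvd_pow h'))
      omega
    · have := Nat.le_of_dvd (by omega) (hr.prim _ (by omega) h')
      omega
  · obtain ⟨c, hc, -, hord, hN⟩ := Suzuki.ss_data hF hm hz
    have h := h8.trans (Subgroup.card_dvd_of_le hle)
    rw [hN] at h
    have hodd := (Suzuki.torusOrder_props hF hm hord).2.2.1
    have hco : Nat.Coprime 8
        (Nat.card (Subgroup.centralizer ({z} : Set ↥(Cfsg.Sz F m)))) :=
      (Nat.Coprime.pow_left 3 (Nat.prime_two.coprime_iff_not_dvd.mpr hodd) : Nat.Coprime (2 ^ 3) _)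
    have := Nat.le_of_dvd (by rcases hc with rfl | rfl <;> norm_num) (hco.dvd_of_dvd_mul_right h)
    rcases hc with rfl | rfl <;> omega
  · have hkm := Suzuki.subfield_lt hF hm hM hdiv heq
    rw [heq, Subgroup.card_map_of_injective (MulAut.conj g).injective, Suzuki.card_subGp hF hm hk hdiv] at hrM
    exact absurd (hr.eq_of_dvd hkm.le hrM) hkm.ne

theorem lie_proper (hm : 1 ≤ m) {r : ℕ} (hr : Prim m r) (M : Subgroup ↥(Lie.Sz F (2 ^ (m + 1)))) (hM : M ≠ ⊤)
    (hrM : r ∣ Nat.card M) (h8 : 8 ∣ Nat.card M) : False := by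
  set e := (Suzuki.lieEquiv hF hm).symm
  have hc : Nat.card ↥(M.map e.toMonoidHom) = Nat.card M :=
    Subgroup.card_map_of_injective e.injective
  refine sz_proper hF hm hr (M.map e.toMonoidHom) (fun h => hM ?_) (hc ▸ hrM) (hc ▸ h8)
  exact Subgroup.map_injective (f := e.toMonoidHom) e.injective
    (h.trans (Subgroup.map_top_of_surjective e.toMonoidHom e.surjective).symm)

theorem card_lie (hm : 1 ≤ m) : Nat.card ↥(Lie.Sz F (2 ^ (m + 1))) = szOrd m := by
  rw [← Nat.card_congr (Suzuki.lieEquiv hF hm).toEquiv, Suzuki.card_Sz hF hm]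

end Sz

/-! ### The group -/

section Group

variable {G : Type u} [Group G] [Finite G]

/-- The hypotheses used: the order, and no proper subgroup of order divisible by `8 r`. -/
structure Ctx (G : Type u) [Group G] (m r : ℕ) : Prop where
  hm : 1 ≤ m
  prim : Prim m r
  card : Nat.card G = szOrd m
  proper : ∀ H : Subgroup G, H ≠ ⊤ → r ∣ Nat.card H → 8 ∣ Nat.card H → False

variable {m r : ℕ} (c : Ctx G m r)
include c

theorem Ctx.dvd_r : r ∣ Nat.card G := c.card ▸ c.prim.dvd_szOrd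

theorem Ctx.dvd_sixtyfour : 64 ∣ Nat.card G := by
  rw [c.card]
  refine Dvd.dvd.mul_right (Dvd.dvd.mul_right ?_ _) _
  rw [← pow_mul, show (64 : ℕ) = 2 ^ 6 from rfl]
  exact pow_dvd_pow 2 (by have := c.hm; omega)

theorem Ctx.not_two_r {a b : ℕ} (h : Nat.card G ∣ 2 ^ a * r ^ b) : False := by
  have h5 : 5 ∣ Nat.card G := by
    rw [c.card]; exact ((SzPairGen.five_dvd m).mul_left _).mul_right _
  have h5p : Nat.Prime 5 := by norm_num
  have := c.prim.big
  have := c.hm
  rcases (h5p.dvd_mul).mp (h5.trans h) with h' | h'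
  · have := (Nat.prime_dvd_prime_iff_eq h5p Nat.prime_two).mp (h5p.dvd_of_dvd_pow h')
    omega
  · have := (Nat.prime_dvd_prime_iff_eq h5p c.prim.prime).mp (h5p.dvd_of_dvd_pow h')
    omega

theorem Ctx.not_three : ¬ 3 ∣ Nat.card G := by
  rw [c.card]
  intro h
  have h3 := Nat.prime_three
  have hq : (2 : ZMod 3) ^ (2 * m + 1) = 2 := by
    rw [pow_succ, pow_mul]
    simp [show (2 : ZMod 3) ^ 2 = 1 from rfl]
  have h1 : 1 ≤ 2 ^ (2 * m + 1) := Nat.one_le_two_pow
  rw [← ZMod.natCast_eq_zero_iff] at h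
  simp only [szOrd, Nat.cast_mul, Nat.cast_add, Nat.cast_pow, Nat.cast_sub h1, Nat.cast_ofNat, Nat.cast_one, hq] at h
  exact absurd h (by decide)

theorem Ctx.normal_proper (X : Subgroup G) [X.Normal] (hX : X ≠ ⊤) :
    ¬ r ∣ Nat.card X ∧ ¬ 8 ∣ Nat.card X := by
  haveI : Fact r.Prime := ⟨c.prim.prime⟩
  haveI : Fact (Nat.Prime 2) := ⟨Nat.prime_two⟩
  have hXi := Subgroup.card_eq_card_quotient_mul_card_subgroup X
  have hr : ¬ r ∣ Nat.card X := by
    intro hrX
    have h8 : ¬ 8 ∣ Nat.card X := fun h8 => c.proper X hX hrX h8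
    have hq : 8 ∣ Nat.card (G ⧸ X) := eight_of_sixtyfour (hXi ▸ c.dvd_sixtyfour) h8
    obtain ⟨R⟩ : Nonempty (Sylow r X) := inferInstance
    set N := Subgroup.normalizer ((R : Subgroup X).map X.subtype : Set G) with hN
    have hsup : N ⊔ X = ⊤ := R.normalizer_sup_eq_top
    have hmap : N.map (QuotientGroup.mk' X) = ⊤ := by
      rw [← top_le_iff, ← Subgroup.map_top_of_surjective _ (QuotientGroup.mk'_surjective X), ← hsup,
        Subgroup.map_sup, QuotientGroup.map_mk'_self, sup_bot_eq]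
    have hNq : Nat.card (G ⧸ X) ∣ Nat.card N := by
      rw [← Subgroup.card_top (G := G ⧸ X), ← hmap]
      exact N.card_map_dvd _
    have hRr : r ∣ Nat.card ((R : Subgroup X).map X.subtype) := by
      rw [Subgroup.card_map_of_injective X.subtype_injective]
      exact R.dvd_card_of_dvd_card hrX
    have hNtop : N = ⊤ := by
      by_contra hne
      exact c.proper N hne (hRr.trans (Subgroup.card_dvd_of_le Subgroup.le_normalizer)) (hq.trans hNq)
    set R' := (R : Subgroup X).map X.subtype with hR'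
    haveI : R'.Normal := Subgroup.normalizer_eq_top_iff.mp hNtop
    obtain ⟨T⟩ : Nonempty (Sylow 2 G) := inferInstance
    have hT8 : 8 ∣ Nat.card (T : Subgroup G) := by
      refine (Nat.prime_two.pow_dvd_iff_le_factorization (k := 3) Nat.card_pos.ne').mpr ?_ |> fun h => by simpa using h
      rw [T.card_eq_multiplicity, Nat.Prime.factorization_pow Nat.prime_two, Finsupp.single_eq_same]
      have h64 : (2 : ℕ) ^ 6 ∣ Nat.card G := c.dvd_sixtyfour
      have := (Nat.prime_two.pow_dvd_iff_le_factorization Nat.card_pos.ne').mp h64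
      omega
    have hsup' : R' ⊔ (T : Subgroup G) = ⊤ := by
      by_contra hne
      exact c.proper _ hne (hRr.trans (Subgroup.card_dvd_of_le le_sup_left))
        (hT8.trans (Subgroup.card_dvd_of_le le_sup_right))
    obtain ⟨a, ha⟩ := IsPGroup.iff_card.mp T.2
    obtain ⟨b, hb⟩ := IsPGroup.iff_card.mp (R.2.map X.subtype)
    refine c.not_two_r (a := a) (b := b) ?_
    rw [Subgroup.card_eq_card_quotient_mul_card_subgroup R', ← hR'] at *
    refine mul_dvd_mul ?_ (dvd_of_eq hb)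
    rw [← ha, ← Subgroup.card_top (G := G ⧸ R'), ← Subgroup.map_top_of_surjective _
      (QuotientGroup.mk'_surjective R'), ← hsup', Subgroup.map_sup, QuotientGroup.map_mk'_self, bot_sup_eq]
    exact (T : Subgroup G).card_map_dvd _
  refine ⟨hr, fun h8 => ?_⟩
  obtain ⟨P⟩ : Nonempty (Sylow 2 X) := inferInstance
  set P' := (P : Subgroup X).map X.subtype with hP'
  set N := Subgroup.normalizer (P' : Set G) with hN
  have hsup : N ⊔ X = ⊤ := P.normalizer_sup_eq_top
  have hrN : r ∣ Nat.card N := by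
    have hrq : r ∣ Nat.card (G ⧸ X) := ((c.prim.prime.dvd_mul).mp (hXi ▸ c.dvd_r)).resolve_right hr
    refine hrq.trans ?_
    rw [← Subgroup.card_top (G := G ⧸ X), ← Subgroup.map_top_of_surjective _ (QuotientGroup.mk'_surjective X),
      ← hsup, Subgroup.map_sup, QuotientGroup.map_mk'_self, sup_bot_eq]
    exact N.card_map_dvd _
  obtain ⟨x, hx⟩ := exists_prime_orderOf_dvd_card' r hrN
  rw [← Subgroup.orderOf_coe] at hx
  have hP8 : 8 ∣ Nat.card P' := by
    rw [hP', Subgroup.card_map_of_injective X.subtype_injective, P.card_eq_multiplicity]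
    exact (pow_dvd_pow 2 ((Nat.prime_two.pow_dvd_iff_le_factorization (k := 3) Nat.card_pos.ne').mp h8) : 2 ^ 3 ∣ _)
  set H := P' ⊔ Subgroup.zpowers (x : G) with hH
  have hHtop : H = ⊤ := by
    by_contra hne
    refine c.proper H hne ?_ (hP8.trans (Subgroup.card_dvd_of_le le_sup_left))
    rw [← hx, ← Nat.card_zpowers]
    exact Subgroup.card_dvd_of_le le_sup_right
  have hNtop : N = ⊤ := top_le_iff.mp (hHtop ▸ sup_le Subgroup.le_normalizer (Subgroup.zpowers_le.mpr x.2))
  haveI : P'.Normal := Subgroup.normalizer_eq_top_iff.mp hNtop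
  obtain ⟨a, ha⟩ := IsPGroup.iff_card.mp (P.2.map X.subtype)
  refine c.not_two_r (a := a) (b := 1) ?_
  rw [Subgroup.card_eq_card_quotient_mul_card_subgroup P', ← hP'] at *
  rw [ha, mul_comm (2 ^ a) (r ^ 1)]
  refine mul_dvd_mul_right ?_ _
  rw [pow_one, ← hx, ← Nat.card_zpowers, ← Subgroup.card_top (G := G ⧸ P'),
    ← Subgroup.map_top_of_surjective _ (QuotientGroup.mk'_surjective P'), ← hHtop, hH, Subgroup.map_sup,
    QuotientGroup.map_mk'_self, bot_sup_eq]
  exact (Subgroup.zpowers (x : G)).card_map_dvd _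

/-- The group is the Suzuki group. -/
theorem Ctx.iso : ∃ (F : Type) (_ : Field F) (_ : Fintype F), Fintype.card F = 2 ^ (2 * m + 1) ∧
    Nonempty (G ≃* ↥(Lie.Sz F (2 ^ (m + 1)))) := by
  haveI : Fact r.Prime := ⟨c.prim.prime⟩
  have h64 := c.dvd_sixtyfour
  have hG1 : (⊥ : Subgroup G) ≠ ⊤ := fun e => by
    have h1 : Nat.card G = 1 := by rw [← Subgroup.card_top (G := G), ← e, Subgroup.card_bot]
    rw [h1] at h64; omega
  obtain ⟨X, ⟨hXn, hXt⟩, hmax⟩ := Set.Finite.exists_maximal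
    (Set.toFinite {K : Subgroup G | K.Normal ∧ K ≠ ⊤}) ⟨⊥, inferInstance, hG1⟩
  haveI := hXn
  obtain ⟨hrX, h8X⟩ := c.normal_proper X hXt
  have hXi := Subgroup.card_eq_card_quotient_mul_card_subgroup X
  haveI : Nontrivial (G ⧸ X) := by
    refine Finite.one_lt_card_iff_nontrivial.mp ?_
    rw [← Subgroup.index_eq_card]
    exact Subgroup.one_lt_index_of_ne_top hXt
  haveI hsimple : IsSimpleGroup (G ⧸ X) := ⟨fun K hK => by
    haveI := hK.comap (QuotientGroup.mk' X)
    by_cases ht : K.comap (QuotientGroup.mk' X) = ⊤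
    · refine Or.inr ?_
      rw [← Subgroup.map_comap_eq_self_of_surjective (QuotientGroup.mk'_surjective X) K, ht,
        Subgroup.map_top_of_surjective _ (QuotientGroup.mk'_surjective X)]
    · refine Or.inl ?_
      have hle : X ≤ K.comap (QuotientGroup.mk' X) := fun g hg => by
        show QuotientGroup.mk' X g ∈ K
        rw [show QuotientGroup.mk' X g = 1 from (QuotientGroup.eq_one_iff g).mpr hg]
        exact one_mem _
      rw [← Subgroup.map_comap_eq_self_of_surjective (QuotientGroup.mk'_surjective X) K, Subgroup.map_eq_bot_iff,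
        QuotientGroup.ker_mk']
      exact hmax ⟨inferInstance, ht⟩ hle⟩
  have hq2 : 8 ∣ Nat.card (G ⧸ X) := eight_of_sixtyfour (hXi ▸ h64) h8X
  have hna : ¬ IsMulCommutative (G ⧸ X) := fun hcomm => by
    letI : CommGroup (G ⧸ X) := { (inferInstance : Group (G ⧸ X)) with mul_comm := hcomm.is_comm.comm }
    have hp : (Nat.card (G ⧸ X)).Prime := IsSimpleGroup.prime_card
    rcases (Nat.dvd_prime hp).mp hq2 with e | e
    · omega
    · rw [← e] at hp; norm_num at hp
  have h3 : ¬ 3 ∣ Nat.card (G ⧸ X) := fun h => c.not_three (h.trans (Dvd.intro _ hXi.symm))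
  have hfree : ¬ Involves (Equiv.Perm (Fin 3)) (G ⧸ X) := by
    rintro ⟨K, R, hn, ⟨e⟩⟩
    refine h3 (dvd_trans ?_ (Subgroup.card_subgroup_dvd_card K))
    refine dvd_trans ?_ (Subgroup.card_quotient_dvd_card (R.subgroupOf K))
    rw [Nat.card_congr e.toEquiv, Nat.card_perm, Nat.card_fin]
    decide
  rcases S3Simple.classify (G ⧸ X) hsimple hna hfree with hsz | ⟨F, i1, i2, n, hF, ⟨e⟩⟩
  · obtain ⟨F, i1, i2, k, hk, hF, ⟨e⟩⟩ := hsz
    have hcard : Nat.card (G ⧸ X) = szOrd k := by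
      rw [Nat.card_congr e.toEquiv, card_lie hF hk]
    have hkm : k ≤ m := by
      have h1 : (2 ^ (2 * k + 1)) ^ 2 ∣ szOrd m := by
        rw [← c.card]
        exact (Dvd.dvd.mul_right (Dvd.intro _ rfl) _).trans (hcard ▸ Dvd.intro _ hXi.symm)
      have hco : Nat.Coprime ((2 ^ (2 * k + 1)) ^ 2)
          (((2 ^ (2 * m + 1)) ^ 2 + 1) * (2 ^ (2 * m + 1) - 1)) := by
        rw [← pow_mul]
        refine Nat.Coprime.pow_left _ (Nat.prime_two.coprime_iff_not_dvd.mpr ?_)
        rw [Nat.prime_two.dvd_mul, not_or]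
        have : 2 ∣ 2 ^ (2 * m + 1) := dvd_pow_self 2 (by omega)
        have : 2 ∣ (2 ^ (2 * m + 1)) ^ 2 := dvd_pow this two_ne_zero
        have : 1 ≤ 2 ^ (2 * m + 1) := Nat.one_le_two_pow
        omega
      rw [szOrd, mul_assoc] at h1
      have h2 := hco.dvd_of_dvd_mul_right h1
      rw [← pow_mul, ← pow_mul, Nat.pow_dvd_pow_iff_le_right (by norm_num)] at h2
      omega
    have hk' : k = m := by
      refine c.prim.eq_of_dvd hkm (hcard ▸ ?_)
      exact ((c.prim.prime.dvd_mul).mp (hXi ▸ c.dvd_r)).resolve_right hrX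
    subst hk'
    have hX1 : X = ⊥ := by
      refine Subgroup.eq_bot_of_card_eq X ?_
      have e1 := hXi
      rw [c.card, hcard] at e1
      exact (Nat.mul_eq_left (by rw [← hcard]; exact Nat.card_pos.ne')).mp e1.symm
    exact ⟨F, i1, i2, hF, ⟨(MulEquiv.ofBijective (QuotientGroup.mk' X)
      ⟨by rw [← MonoidHom.ker_eq_bot_iff, QuotientGroup.ker_mk', hX1], QuotientGroup.mk'_surjective X⟩).trans e⟩⟩
  · exfalso
    refine h3 ?_
    rw [Nat.card_congr e.toEquiv]
    have hc := SLCard.gcd_mul_card_PSL (F := F) (n := 2) (by norm_num)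
    rw [SLCard.card_SL_two, hF] at hc
    have hd : 3 ∣ Nat.gcd 2 (3 ^ (2 * n + 1) - 1) *
        Nat.card (Matrix.ProjectiveSpecialLinearGroup (Fin 2) F) := by
      rw [hc]; exact Dvd.dvd.mul_right (dvd_pow_self 3 (by omega)) _
    refine ((Nat.prime_three.dvd_mul).mp hd).resolve_left fun hg => ?_
    have := Nat.le_of_dvd (by norm_num) (hg.trans (Nat.gcd_dvd_left _ _))
    omega

end Group

/-- A group with the maximal orders of `Sz(q)` is `Sz(q)`. -/
theorem sz_of_max_orders {G : Type u} [Group G] [Finite G] {F : Type v} [Field F] [Fintype F] (m : ℕ) (hm : 1 ≤ m)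
    (hF : Fintype.card F = 2 ^ (2 * m + 1))
    (h : maxOrders G = maxOrders ↥(Lie.Sz F (2 ^ (m + 1)))) :
    Nonempty (G ≃* ↥(Lie.Sz F (2 ^ (m + 1)))) := by
  obtain ⟨r, hr⟩ := exists_prim m hm
  have hS : Nat.card ↥(Lie.Sz F (2 ^ (m + 1))) = szOrd m := card_lie hF hm
  haveI : Finite ↥(Lie.Sz F (2 ^ (m + 1))) := Finite.of_equiv _ (Suzuki.lieEquiv hF hm).toEquiv
  have h2 : 2 ∣ szOrd m := Dvd.dvd.mul_right (Dvd.dvd.mul_right (dvd_pow (dvd_pow_self 2 (by omega)) two_ne_zero) _) _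
  have hne : (2 : ℕ) ≠ r := fun e => by have := hr.big; omega
  have hcard : Nat.card G = szOrd m :=
    (card_eq h Nat.prime_two hr.prime hne (hS ▸ h2) (hS ▸ hr.dvd_szOrd)).trans hS
  have c : Ctx G m r := ⟨hm, hr, hcard, fun H hH hrH h8 => by
    obtain ⟨M, hM, hHM⟩ := exists_max hH
    obtain ⟨M', hM', hk⟩ := h.le ⟨M, hM, rfl⟩
    exact lie_proper hF hm hr M' hM'.1 (hk ▸ hrH.trans (Subgroup.card_dvd_of_le hHM))
      (hk ▸ h8.trans (Subgroup.card_dvd_of_le hHM))⟩
  obtain ⟨F', i1, i2, hF', ⟨e⟩⟩ := c.iso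
  obtain ⟨e'⟩ := SuzukiUnique.nonempty_lie_congr hm hF hF'
  exact ⟨e.trans e'⟩

end CfsgLib.SzMaxOrders
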